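import Cfsg.Agent.Lib.Components.WeaklyClosed
import Mathlib.GroupTheory.Sylow
import Mathlib.GroupTheory.OrderOfElement

/-!
Values of left-normed commutators and the condition on coprime commutator values.
-/

set_option autoImplicit false
set_option linter.style.haveILetI false
set_option linter.unusedVariables false
set_option linter.unusedSectionVars false

open Subgroup

namespace CfsgLib.CoprimeValues

variable {G H : Type*} [Group G] [Group H]

/-- The commutator in the convention `a b a⁻¹ b⁻¹`. -/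
def cm (a b : G) : G := a * b * a⁻¹ * b⁻¹

/-- `Val k x`: `x` is a value of the left-normed commutator word of weight `k + 1`. -/
def Val : ℕ → G → Prop
  | 0, _ => True
  | k + 1, x => ∃ w b : G, Val k w ∧ x = cm w b

theorem cm_map (f : G →* H) (a b : G) : f (cm a b) = cm (f a) (f b) := by
  simp [cm]

theorem val_map (f : G →* H) : ∀ {k : ℕ} {x : G}, Val k x → Val k (f x) := by
  intro k
  induction k with
  | zero => intros; trivial
  | succ k ih =>
    rintro x ⟨w, b, hw, rfl⟩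
    exact ⟨f w, f b, ih hw, cm_map f w b⟩

theorem val_lift (f : G →* H) (hf : Function.Surjective f) :
    ∀ {k : ℕ} {y : H}, Val k y → ∃ x : G, Val k x ∧ f x = y := by
  intro k
  induction k with
  | zero =>
    intro y _
    obtain ⟨x, hx⟩ := hf y
    exact ⟨x, trivial, hx⟩
  | succ k ih =>
    rintro y ⟨w, b, hw, rfl⟩
    obtain ⟨w', hw', rfl⟩ := ih hw
    obtain ⟨b', rfl⟩ := hf b
    exact ⟨cm w' b', ⟨w', b', hw', rfl⟩, cm_map f w' b'⟩

theorem val_conj {k : ℕ} {x : G} (hx : Val k x) (g : G) : Val k (g * x * g⁻¹) := by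
  simpa using val_map (MulAut.conj g).toMonoidHom hx

theorem val_inv : ∀ {k : ℕ} {x : G}, Val k x → Val k x⁻¹ := by
  intro k
  cases k with
  | zero => intros; trivial
  | succ k =>
    rintro x ⟨w, b, hw, rfl⟩
    have h0 : Val (k + 1) (cm w b⁻¹) := ⟨w, b⁻¹, hw, rfl⟩
    have h : Val (k + 1) (b * cm w b⁻¹ * b⁻¹) := val_conj h0 b
    have heq : (cm w b)⁻¹ = b * cm w b⁻¹ * b⁻¹ := by simp [cm, mul_assoc]
    rw [heq]
    exact h

theorem val_mono : ∀ {k : ℕ} {x : G}, Val (k + 1) x → Val k x := by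
  intro k
  induction k with
  | zero => intros; trivial
  | succ k ih =>
    rintro x ⟨w, b, hw, rfl⟩
    exact ⟨w, b, ih hw, rfl⟩

theorem val_cm {k : ℕ} {x : G} (hx : Val k x) (g : G) : Val k (cm x g) :=
  val_mono ⟨x, g, hx, rfl⟩

/-- `Val` is the word in the statement. -/
theorem val_iff_foldl {k : ℕ} {x : G} : Val k x ↔ ∃ f : Fin (k + 1) → G,
    x = ((List.ofFn f).tail).foldl (fun a b => a * b * a⁻¹ * b⁻¹) (f 0) := by
  induction k generalizing x with
  | zero => exact ⟨fun _ => ⟨fun _ => x, by simp⟩, fun _ => trivial⟩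
  | succ k ih =>
    have key : ∀ f : Fin (k + 2) → G,
        ((List.ofFn f).tail).foldl (fun a b => a * b * a⁻¹ * b⁻¹) (f 0) =
        cm (((List.ofFn fun i : Fin (k + 1) => f i.castSucc).tail).foldl
          (fun a b => a * b * a⁻¹ * b⁻¹) (f 0)) (f (Fin.last (k + 1))) := by
      intro f
      rw [List.ofFn_succ', List.concat_eq_append, List.tail_append_of_ne_nil (by simp),
        List.foldl_append]
      rfl
    constructor
    · rintro ⟨w, b, hw, rfl⟩
      obtain ⟨f, rfl⟩ := ih.1 hw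
      refine ⟨Fin.snoc f b, ?_⟩
      rw [key]
      have h0 : (Fin.snoc f b : Fin (k + 2) → G) 0 = f 0 := by
        have : (0 : Fin (k + 2)) = (0 : Fin (k + 1)).castSucc := rfl
        rw [this, Fin.snoc_castSucc]
      simp only [h0, Fin.snoc_castSucc, Fin.snoc_last]
    · rintro ⟨f, rfl⟩
      rw [key]
      exact ⟨_, _, ih.2 ⟨fun i => f i.castSucc, rfl⟩, rfl⟩

/-- The hypothesis on coprime values. -/
def Hyp (k : ℕ) (G : Type*) [Group G] : Prop :=
  ∀ x y : G, Val k x → Val k y → (orderOf x).Coprime (orderOf y) →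
    (∀ r : ℕ, r.Prime → r ∣ orderOf x * orderOf y → r ∣ orderOf (x * y)) ∨
      orderOf x * orderOf y ≤ orderOf (x * y)

theorem Hyp.subgroup {k : ℕ} (h : Hyp k G) (K : Subgroup G) : Hyp k K := by
  intro x y hx hy hc
  have h' := h (x : G) y (val_map K.subtype hx) (val_map K.subtype hy)
    (by rwa [Subgroup.orderOf_coe, Subgroup.orderOf_coe])
  rw [← Subgroup.coe_mul, Subgroup.orderOf_coe, Subgroup.orderOf_coe, Subgroup.orderOf_coe] at h'
  exact h'

variable [Finite G] {k : ℕ}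

/-- The basic consequence: no nontrivial coprime value keeps the product in a `p`-group. -/
theorem eq_one_of_pow_mul_eq_one (h : Hyp k G) {p a : ℕ} (hp : p.Prime) {x y : G} (hx : Val k x)
    (hy : Val k y) (hxo : orderOf x = p ^ a) (hc : (orderOf x).Coprime (orderOf y))
    (hxy : (x * y) ^ p ^ a = 1) : y = 1 := by
  by_contra hy1
  have hdvd : orderOf (x * y) ∣ p ^ a := orderOf_dvd_of_pow_eq_one hxy
  have hne : orderOf y ≠ 1 := fun h1 => hy1 (orderOf_eq_one_iff.mp h1)
  rcases h x y hx hy hc with h1 | h1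
  · obtain ⟨r, hr, hry⟩ := Nat.exists_prime_and_dvd hne
    have hrp : r ∣ p ^ a := (h1 r hr (dvd_mul_of_dvd_right hry _)).trans hdvd
    exact hr.ne_one (Nat.eq_one_of_dvd_coprimes hc (hxo ▸ hrp) hry)
  · have h2 := h1.trans (Nat.le_of_dvd (pow_pos hp.pos a) hdvd)
    rw [hxo] at h2
    have h3 : 2 ≤ orderOf y := by have := orderOf_pos y; omega
    have h4 : p ^ a * 2 ≤ p ^ a * orderOf y := Nat.mul_le_mul_left _ h3
    have h5 := pow_pos hp.pos a
    omega

/-- A commutator of coprime order with a value of prime power order is trivial. -/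
theorem cm_eq_one (h : Hyp k G) {p a : ℕ} (hp : p.Prime) {x : G} (hx : Val k x)
    (hxo : orderOf x = p ^ a) (g : G) (hc : (orderOf x).Coprime (orderOf (cm x g))) :
    cm x g = 1 := by
  refine eq_one_of_pow_mul_eq_one h hp (val_inv hx) (val_cm hx g) (by rw [orderOf_inv, hxo])
    (by rwa [orderOf_inv]) ?_
  have h1 : x⁻¹ * cm x g = g * x⁻¹ * g⁻¹ := by simp [cm, mul_assoc]
  rw [h1, conj_pow, ← hxo, inv_pow, pow_orderOf_eq_one, inv_one, mul_one, mul_inv_cancel]

/-- A value of `p`-power order centralizes every normal subgroup of order prime to `p`. -/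
theorem mem_centralizer_of_normal (h : Hyp k G) {p a : ℕ} (hp : p.Prime) {x : G} (hx : Val k x)
    (hxo : orderOf x = p ^ a) (N : Subgroup G) [hN : N.Normal] (hc : (Nat.card N).Coprime p) :
    x ∈ centralizer (N : Set G) := by
  intro g hg
  have hmem : cm x g ∈ N := N.mul_mem (hN.conj_mem g hg x) (N.inv_mem hg)
  have h1 := cm_eq_one h hp hx hxo g (by
    rw [hxo]
    exact ((hc.pow_right a).symm).coprime_dvd_right (Subgroup.orderOf_dvd_natCard N hmem))
  have h2 : x * g * x⁻¹ = g := mul_inv_eq_one.mp h1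
  exact ((mul_inv_eq_iff_eq_mul.mp h2)).symm

/-- A value of 2-power order inverts no nontrivial odd value. -/
theorem eq_one_of_inverted (h : Hyp k G) {a : ℕ} {x y : G} (hx : Val k x) (hy : Val k y)
    (hxo : orderOf x = 2 ^ a) (hodd : Odd (orderOf y)) (hinv : x * y * x⁻¹ = y⁻¹) : y = 1 := by
  refine eq_one_of_pow_mul_eq_one h Nat.prime_two hx hy hxo
    (by rw [hxo]; exact (Nat.coprime_two_left.mpr hodd).pow_left a) ?_
  cases a with
  | zero =>
    rw [pow_zero] at hxo
    have hx1 := orderOf_eq_one_iff.mp hxo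
    subst hx1
    simp only [one_mul, inv_one, mul_one] at hinv
    have h2 : y ^ 2 = 1 := by rw [pow_two]; nth_rw 1 [hinv]; exact inv_mul_cancel y
    have h3 : orderOf y = 1 :=
      Nat.eq_one_of_dvd_coprimes (Nat.coprime_two_left.mpr hodd) (orderOf_dvd_of_pow_eq_one h2)
        dvd_rfl
    rw [orderOf_eq_one_iff.mp h3]
    simp
  | succ a =>
    have hx2 : x ^ 2 * y * (x ^ 2)⁻¹ = y := by
      calc x ^ 2 * y * (x ^ 2)⁻¹ = x * (x * y * x⁻¹) * x⁻¹ := by rw [pow_two]; group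
        _ = x * y⁻¹ * x⁻¹ := by rw [hinv]
        _ = (x * y * x⁻¹)⁻¹ := by group
        _ = y := by rw [hinv, inv_inv]
    have hsq : (x * y) ^ 2 = x ^ 2 := by
      calc (x * y) ^ 2 = (x * y * x⁻¹) * (x ^ 2 * y * (x ^ 2)⁻¹) * x ^ 2 := by
            rw [pow_two, pow_two]; group
        _ = x ^ 2 := by rw [hinv, hx2]; group
    rw [pow_succ', pow_mul, hsq, ← pow_mul, ← pow_succ', ← hxo, pow_orderOf_eq_one]

/-- An element of odd order inverted by `x` is a value. -/
theorem val_of_inverted {x : G} : ∀ (j : ℕ) {y : G}, Odd (orderOf y) → x * y * x⁻¹ = y⁻¹ →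
    Val j y := by
  intro j
  induction j with
  | zero => intros; trivial
  | succ j ih =>
    intro y hodd hinv
    obtain ⟨m, hm⟩ := hodd
    have hz : y ^ (m + 1) * y ^ (m + 1) = y := by
      rw [← pow_add, show m + 1 + (m + 1) = orderOf y + 1 by omega, pow_succ, pow_orderOf_eq_one,
        one_mul]
    have hinv' : x * y ^ (m + 1) * x⁻¹ = (y ^ (m + 1))⁻¹ := by rw [← conj_pow, hinv, inv_pow]
    refine ⟨y ^ (m + 1), x, ih ?_ hinv', ?_⟩
    · exact Odd.of_dvd_nat ⟨m, hm⟩ (orderOf_pow_dvd _)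
    · show y = y ^ (m + 1) * x * (y ^ (m + 1))⁻¹ * x⁻¹
      rw [show y ^ (m + 1) * x * (y ^ (m + 1))⁻¹ * x⁻¹ =
        y ^ (m + 1) * (x * y ^ (m + 1) * x⁻¹)⁻¹ by group, hinv', inv_inv, hz]

/-- Coprime iteration: a nontrivial commutator can be repeated. -/
theorem cm_cm_ne_one {z u : G} (hc : (orderOf (cm z u)).Coprime (orderOf u)) (h : cm z u ≠ 1) :
    cm (cm z u) u ≠ 1 := by
  intro h1
  set w := cm z u with hw
  have hfix : u * w * u⁻¹ = w := by
    have h2 : w * u * w⁻¹ = u := mul_inv_eq_one.mp h1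
    have h3 : w * u = u * w := mul_inv_eq_iff_eq_mul.mp h2
    rw [← h3, mul_inv_cancel_right]
  have hstep : u * z * u⁻¹ = w⁻¹ * z := by rw [hw, cm]; group
  have hiter : ∀ n : ℕ, u ^ n * z * (u ^ n)⁻¹ = (w⁻¹) ^ n * z := by
    intro n
    induction n with
    | zero => simp
    | succ n ih =>
      calc u ^ (n + 1) * z * (u ^ (n + 1))⁻¹ = u * (u ^ n * z * (u ^ n)⁻¹) * u⁻¹ := by
            rw [pow_succ']; group
        _ = (u * w * u⁻¹)⁻¹ ^ n * (u * z * u⁻¹) := by
            rw [ih, inv_pow, inv_pow, conj_pow]; group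
        _ = (w⁻¹) ^ (n + 1) * z := by rw [hfix, hstep, pow_succ, mul_assoc]
  have h2 := hiter (orderOf u)
  rw [pow_orderOf_eq_one, inv_one, one_mul, mul_one] at h2
  have h3 : (w⁻¹) ^ orderOf u = 1 := mul_eq_right.mp h2.symm
  have h4 : orderOf w ∣ orderOf u := by
    rw [← orderOf_inv w]
    exact orderOf_dvd_of_pow_eq_one h3
  exact h (orderOf_eq_one_iff.mp (Nat.eq_one_of_dvd_coprimes hc dvd_rfl h4))

/-- A nontrivial value inside a subgroup on which `u` acts coprimely and nontrivially. -/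
theorem exists_val_mem [Finite H] (f : G →* H) {S : Subgroup G} {z u : G} (hz : z ∈ S)
    (hu : u ∈ normalizer (S : Set G))
    (hc : ∀ s ∈ S, (orderOf (f s)).Coprime (orderOf (f u))) (hne : cm (f z) (f u) ≠ 1) :
    ∀ j : ℕ, ∃ x ∈ S, Val j x ∧ f x ≠ 1 := by
  have hmem : ∀ s ∈ S, cm s u ∈ S := fun s hs => by
    rw [show cm s u = s * (u * s⁻¹ * u⁻¹) by simp [cm, mul_assoc]]
    exact S.mul_mem hs ((mem_normalizer_iff.mp hu s⁻¹).mp (S.inv_mem hs))
  have key : ∀ j : ℕ, ∃ x ∈ S, Val j x ∧ cm (f x) (f u) ≠ 1 := by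
    intro j
    induction j with
    | zero => exact ⟨z, hz, trivial, hne⟩
    | succ j ih =>
      obtain ⟨x, hx, hv, hxne⟩ := ih
      refine ⟨cm x u, hmem x hx, ⟨x, u, hv, rfl⟩, ?_⟩
      rw [cm_map]
      refine cm_cm_ne_one ?_ hxne
      rw [← cm_map]
      exact hc _ (hmem x hx)
  intro j
  obtain ⟨x, hx, hv, hxne⟩ := key j
  exact ⟨x, hx, hv, fun h1 => hxne (by simp [cm, h1])⟩

/-- Lift of a coprime nontrivial action on an abelian `p`-subgroup of a quotient to a value of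
`p`-power order. -/
theorem exists_val_lift [Finite H] (f : G →* H) (hf : Function.Surjective f) {p : ℕ}
    [hp : Fact p.Prime] {A : Subgroup H} (hA : IsPGroup p A)
    (hab : ∀ a ∈ A, ∀ b ∈ A, a * b = b * a) {u z : H} (hu : u ∈ normalizer (A : Set H))
    (huc : (orderOf u).Coprime p) (hz : z ∈ A) (hne : cm z u ≠ 1) (j : ℕ) :
    ∃ x : G, Val j x ∧ (∃ a, orderOf x = p ^ a) ∧ f x ∈ A ∧ f x ≠ 1 := by
  set T := A.comap f with hT
  set NT := (normalizer (A : Set H)).comap f with hNT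
  have hTN : T ≤ NT := comap_mono le_normalizer
  haveI : (T.subgroupOf NT).Normal := normal_subgroupOf_of_le_normalizer (fun n hn =>
    Components.mem_normalizer_of_conj_le fun t ht => by
      show f (n * t * n⁻¹) ∈ A
      rw [map_mul, map_mul, map_inv]
      exact (mem_normalizer_iff.mp hn (f t)).mp ht)
  obtain ⟨S⟩ : Nonempty (Sylow p ↥(T.subgroupOf NT)) := inferInstance
  set S' : Subgroup NT := (S : Subgroup ↥(T.subgroupOf NT)).map (T.subgroupOf NT).subtype with hS'
  set SG : Subgroup G := S'.map NT.subtype with hSG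
  have hfr : normalizer (S' : Set NT) ⊔ T.subgroupOf NT = ⊤ := Sylow.normalizer_sup_eq_top S
  obtain ⟨u₀, hu₀⟩ := hf u
  have hu₀N : u₀ ∈ NT := by show f u₀ ∈ normalizer (A : Set H); rwa [hu₀]
  have hmem : (⟨u₀, hu₀N⟩ : NT) ∈ normalizer (S' : Set NT) ⊔ T.subgroupOf NT := hfr ▸ mem_top _
  have hnn : normalizer (S' : Set NT) ≤ normalizer ((T.subgroupOf NT : Subgroup NT) : Set NT) := by
    rw [normalizer_eq_top (H := T.subgroupOf NT)]; exact le_top
  rw [sup_comm] at hmem
  obtain ⟨t, ht, n, hn, hnt⟩ := (Solvable.mem_sup_of_le_normalizer hnn).1 hmem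
  have hfn : f (t : G) * f (n : G) = u := by
    rw [← map_mul, ← hu₀]
    exact congrArg f (congrArg Subtype.val hnt)
  -- an odd part of `n`
  obtain ⟨e, m, hm, hnm⟩ := Nat.exists_eq_pow_mul_and_not_dvd (orderOf_pos (n : G)).ne' p hp.out.ne_one
  set n₁ : NT := n ^ p ^ e with hn₁
  have hn₁o : (orderOf (n₁ : G)).Coprime p := by
    have h1 : orderOf (n₁ : G) ∣ m := orderOf_dvd_of_pow_eq_one (by
      rw [hn₁, SubgroupClass.coe_pow, ← pow_mul, ← hnm, pow_orderOf_eq_one])
    exact (((Nat.Prime.coprime_iff_not_dvd hp.out).mpr hm).symm).coprime_dvd_left h1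
  have hn₁S : (n₁ : G) ∈ normalizer (SG : Set G) :=
    le_normalizer_map NT.subtype ⟨n₁, pow_mem hn _, rfl⟩
  have hSA : ∀ s ∈ SG, f s ∈ A := by
    rintro _ ⟨_, ⟨s, -, rfl⟩, rfl⟩
    exact mem_subgroupOf.mp s.2
  have hSp : IsPGroup p SG := (S.isPGroup'.map _).map _
  -- `S` covers `A`
  have hcov : ∀ a ∈ A, ∃ s ∈ SG, f s = a := by
    intro a ha
    let g : ↥(T.subgroupOf NT) →* ↥A :=
      { toFun := fun t => ⟨f ((t : NT) : G), mem_subgroupOf.mp t.2⟩
        map_one' := Subtype.ext (map_one f)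
        map_mul' := fun _ _ => Subtype.ext (map_mul f _ _) }
    have hg : Function.Surjective g := by
      intro b
      obtain ⟨b₀, hb₀⟩ := hf b
      have hbT : b₀ ∈ T := by show f b₀ ∈ A; rw [hb₀]; exact b.2
      exact ⟨⟨⟨b₀, hTN hbT⟩, mem_subgroupOf.mpr hbT⟩, Subtype.ext hb₀⟩
    have htop : ((S.mapSurjective hg : Sylow p A) : Subgroup A) = ⊤ := by
      obtain ⟨Q, hQ⟩ := ((hA.of_equiv topEquiv.symm)).exists_le_sylow
      have := Sylow.card_eq_multiplicity (S.mapSurjective hg)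
      apply eq_top_of_card_eq
      rw [this, ← Q.card_eq_multiplicity]
      exact le_antisymm (card_le_card_group _)
        ((card_top (G := A)).symm.le.trans (card_le_of_le hQ))
    have hmem' : (⟨a, ha⟩ : A) ∈ (S : Subgroup ↥(T.subgroupOf NT)).map g := by
      rw [← Sylow.coe_mapSurjective hg S, htop]; trivial
    obtain ⟨s, hs, hse⟩ := hmem'
    exact ⟨_, ⟨_, ⟨s, hs, rfl⟩, rfl⟩, congrArg Subtype.val hse⟩
  obtain ⟨z₁, hz₁, hz₁e⟩ := hcov z hz
  -- `n₁` moves `z`
  have hact : ∀ a ∈ A, f (n : G) * a * (f (n : G))⁻¹ = u * a * u⁻¹ := by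
    intro a ha
    have htA : f (t : G) ∈ A := mem_subgroupOf.mp ht
    have hb : f (n : G) * a * (f (n : G))⁻¹ ∈ A := by
      refine (mem_normalizer_iff.mp ?_ a).mp ha
      exact n.2
    rw [← hfn]
    rw [show f (t : G) * f (n : G) * a * (f (t : G) * f (n : G))⁻¹ =
      f (t : G) * (f (n : G) * a * (f (n : G))⁻¹) * (f (t : G))⁻¹ by group, hab _ htA _ hb,
      mul_inv_cancel_right]
  have hpow : ∀ i : ℕ, ∀ a ∈ A,
      f (n : G) ^ i * a * (f (n : G) ^ i)⁻¹ = u ^ i * a * (u ^ i)⁻¹ ∧ u ^ i * a * (u ^ i)⁻¹ ∈ A := by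
    intro i
    induction i with
    | zero => intro a ha; simpa using ha
    | succ i ih =>
      intro a ha
      obtain ⟨h1, h2⟩ := ih a ha
      have h3 : u ^ (i + 1) * a * (u ^ (i + 1))⁻¹ = u * (u ^ i * a * (u ^ i)⁻¹) * u⁻¹ := by
        rw [pow_succ']; group
      refine ⟨?_, ?_⟩
      · rw [h3, ← hact _ h2, ← h1, pow_succ']; group
      · rw [h3]; exact (mem_normalizer_iff.mp hu _).mp h2
  have hne₁ : cm z (f (n₁ : G)) ≠ 1 := by
    intro h1
    apply hne
    have h2 : z * f (n₁ : G) * z⁻¹ = f (n₁ : G) := mul_inv_eq_one.mp h1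
    have h2' : z * f (n₁ : G) = f (n₁ : G) * z := mul_inv_eq_iff_eq_mul.mp h2
    have h3 : u ^ p ^ e * z * (u ^ p ^ e)⁻¹ = z := by
      rw [← (hpow (p ^ e) z hz).1, ← map_pow,
        show ((n : G)) ^ p ^ e = (n₁ : G) by rw [hn₁, SubgroupClass.coe_pow], ← h2',
        mul_inv_cancel_right]
    have hcu : Commute (u ^ p ^ e) z := mul_inv_eq_iff_eq_mul.mp h3
    obtain ⟨i, hi⟩ : u ∈ Subgroup.zpowers (u ^ p ^ e) := by
      have h : (p ^ e).Coprime (orderOf u) := (huc.pow_right e).symm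
      obtain ⟨i, hi⟩ := exists_pow_eq_self_of_coprime h
      exact ⟨(i : ℤ), by simpa using hi⟩
    have hcu' : Commute u z := hi ▸ hcu.zpow_left i
    simp [cm, hcu'.symm.eq, mul_assoc]
  obtain ⟨x, hx, hv, hx1⟩ := exists_val_mem f hz₁ hn₁S (fun s hs => by
    obtain ⟨i, hi⟩ := (IsPGroup.iff_orderOf.mp hSp) ⟨s, hs⟩
    rw [Subgroup.orderOf_mk] at hi
    refine Nat.Coprime.coprime_dvd_left ((orderOf_map_dvd f s).trans (dvd_of_eq hi)) ?_
    exact Nat.Coprime.coprime_dvd_right (orderOf_map_dvd f _) (hn₁o.symm.pow_left i))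
    (by rw [hz₁e]; exact hne₁) j
  obtain ⟨i, hi⟩ := (IsPGroup.iff_orderOf.mp hSp) ⟨x, hx⟩
  rw [Subgroup.orderOf_mk] at hi
  exact ⟨x, hv, ⟨i, hi⟩, hSA x hx, hx1⟩

end CfsgLib.CoprimeValues
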