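import Cfsg.Agent.Lib.CoprimeValues.Basic
import Cfsg.Agent.Lib.Solvable.Frattini
import Mathlib.GroupTheory.Nilpotent
import Mathlib.GroupTheory.Sylow

/-!
Solvable groups with the condition on coprime commutator values.
-/

set_option autoImplicit false
set_option linter.style.haveILetI false
set_option linter.unusedVariables false
set_option linter.unusedSectionVars false

open Subgroup
open scoped commutatorElement

namespace CfsgLib.CoprimeValues

variable {G H : Type*} [Group G] [Group H]

theorem cm_eq_commutatorElement (a b : G) : cm a b = ⁅a, b⁆ := (commutatorElement_def a b).symm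

/-- The lower central series lies in every normal subgroup containing the values. -/
theorem lcs_le_of_val (j : ℕ) (N : Subgroup G) [N.Normal] (h : ∀ x : G, Val j x → x ∈ N) :
    (⊤ : Subgroup G).lowerCentralSeries j ≤ N := by
  induction j generalizing N with
  | zero => exact fun x _ => h x trivial
  | succ j ih =>
    set f := QuotientGroup.mk' N
    have hf : Function.Surjective f := QuotientGroup.mk'_surjective N
    have hc : (⊤ : Subgroup G).lowerCentralSeries j ≤ (center (G ⧸ N)).comap f := by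
      refine ih _ fun x hx => mem_comap.mpr (mem_center_iff.mpr fun q => ?_)
      obtain ⟨b, rfl⟩ := hf q
      have h1 : f (cm x b) = 1 := (QuotientGroup.eq_one_iff _).mpr (h _ ⟨x, b, hx, rfl⟩)
      rw [cm_map, cm, mul_inv_eq_one, mul_inv_eq_iff_eq_mul] at h1
      exact h1.symm
    rw [Subgroup.lowerCentralSeries_succ, Subgroup.commutator_le]
    intro a ha b _
    rw [← QuotientGroup.eq_one_iff, ← QuotientGroup.mk'_apply, map_commutatorElement,
      commutatorElement_eq_one_iff_mul_comm]
    exact (mem_center_iff.mp (hc ha) (f b)).symm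

theorem val_mem_lcs : ∀ {j : ℕ} {x : G}, Val j x → x ∈ (⊤ : Subgroup G).lowerCentralSeries j := by
  intro j
  induction j with
  | zero => intros; trivial
  | succ j ih =>
    rintro x ⟨w, b, hw, rfl⟩
    rw [cm_eq_commutatorElement, Subgroup.lowerCentralSeries_succ]
    exact commutator_mem_commutator (ih hw) (mem_top b)

/-- The nilpotent residual. -/
def residual (G : Type*) [Group G] : Subgroup G := ⨅ n : ℕ, (⊤ : Subgroup G).lowerCentralSeries n

theorem residual_le (n : ℕ) : residual G ≤ (⊤ : Subgroup G).lowerCentralSeries n := iInf_le _ n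

theorem exists_residual_eq [Finite G] :
    ∃ N : ℕ, ∀ n, N ≤ n → (⊤ : Subgroup G).lowerCentralSeries n = residual G := by
  obtain ⟨_, ⟨N, rfl⟩, hmin⟩ := (Set.toFinite (Set.range fun n =>
    (⊤ : Subgroup G).lowerCentralSeries n)).exists_minimal (Set.range_nonempty _)
  refine ⟨N, fun n hn => le_antisymm (le_iInf fun i => ?_) (residual_le n)⟩
  rcases le_total i N with hi | hi
  · exact Subgroup.lowerCentralSeries_antitone _ (hi.trans hn)
  · exact ((Subgroup.lowerCentralSeries_antitone _ hn).trans
      (hmin ⟨i, rfl⟩ (Subgroup.lowerCentralSeries_antitone _ hi)))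

instance : (residual G).Normal := by
  unfold residual
  exact normal_iInf_normal fun n => inferInstance

theorem commutator_residual [Finite G] : ⁅residual G, (⊤ : Subgroup G)⁆ = residual G := by
  obtain ⟨N, hN⟩ := exists_residual_eq (G := G)
  rw [← hN N le_rfl, ← Subgroup.lowerCentralSeries_succ, hN _ (Nat.le_succ N), hN N le_rfl]

theorem map_residual [Finite G] [Finite H] (f : G →* H) (hf : Function.Surjective f) :
    (residual G).map f = residual H := by
  obtain ⟨N, hN⟩ := exists_residual_eq (G := G)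
  obtain ⟨M, hM⟩ := exists_residual_eq (G := H)
  rw [← hN (max N M) (le_max_left _ _), ← hM (max N M) (le_max_right _ _), map_lowerCentralSeries,
    map_top_of_surjective f hf]

theorem isNilpotent_quotient_residual [Finite G] : Group.IsNilpotent (G ⧸ residual G) := by
  obtain ⟨N, hN⟩ := exists_residual_eq (G := G)
  refine Subgroup.nilpotent_iff_lowerCentralSeries.mpr ⟨N, ?_⟩
  rw [← map_top_of_surjective _ (QuotientGroup.mk'_surjective (residual G)), ← map_lowerCentralSeries,
    hN N le_rfl, Subgroup.map_eq_bot_iff, QuotientGroup.ker_mk']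

theorem isNilpotent_map {K : Subgroup G} (hK : Group.IsNilpotent K) (f : G →* H) :
    Group.IsNilpotent (K.map f) :=
  haveI := hK
  Group.nilpotent_of_surjective (f.subgroupMap K) (f.subgroupMap_surjective K)

theorem isNilpotent_of_le {K L : Subgroup G} (hL : Group.IsNilpotent L) (h : K ≤ L) :
    Group.IsNilpotent K :=
  haveI := hL
  Subgroup.isNilpotent_of_ker_le_center (Subgroup.inclusion h)
    (by rw [(MonoidHom.ker_eq_bot_iff _).mpr (Subgroup.inclusion_injective h)]; exact bot_le)

variable [Finite G] {k : ℕ}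

/-- Values generate the `q`-part of a residual modulo a normal subgroup containing its derived
subgroup. -/
theorem le_closure_val_sup (R K : Subgroup G) [R.Normal] [K.Normal]
    (hR : ⁅R, (⊤ : Subgroup G)⁆ = R) (hKR : ⁅R, R⁆ ≤ K) {q : ℕ} [hq : Fact q.Prime]
    (Q : Subgroup G) (hQR : Q ≤ R) (hQp : IsPGroup q Q) (hidx : ¬ q ∣ Q.relIndex R) (j : ℕ) :
    Q ≤ Subgroup.closure {x | x ∈ Q ∧ Val j x} ⊔ K := by
  set C := normalizer (Q : Set G) with hC
  have hRC : ∀ g : G, ∃ r ∈ R, ∃ c ∈ C, r * c = g := by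
    intro g
    let S : Sylow q R := (hQp.comap_subtype (K := R)).toSylow (by exact hidx)
    have h := Sylow.normalizer_sup_eq_top S
    have hS : (S : Subgroup R).map R.subtype = Q := by
      show (Q.subgroupOf R).map R.subtype = Q
      exact map_subgroupOf_eq_of_le hQR
    rw [hS] at h
    have hg : g ∈ C ⊔ R := by rw [hC, h]; trivial
    rw [sup_comm] at hg
    obtain ⟨r, hr, c, hc, rfl⟩ := (Solvable.mem_sup_of_le_normalizer
      (show C ≤ normalizer (R : Set G) by rw [normalizer_eq_top]; exact le_top)).1 hg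
    exact ⟨r, hr, c, hc, rfl⟩
  set f := QuotientGroup.mk' K with hf
  have hf1 : ∀ g, g ∈ K → f g = 1 := fun g hg => (QuotientGroup.eq_one_iff g).mpr hg
  have hab : ∀ a ∈ R.map f, ∀ b ∈ R.map f, a * b = b * a := by
    rintro _ ⟨a, ha, rfl⟩ _ ⟨b, hb, rfl⟩
    rw [← commutatorElement_eq_one_iff_mul_comm, ← map_commutatorElement]
    exact hf1 _ (hKR (commutator_mem_commutator ha hb))
  have hRn : ∀ g : G, ∀ r ∈ R, g * r * g⁻¹ ∈ R := fun g r hr =>
    (inferInstance : R.Normal).conj_mem r hr g
  have hcmR : ∀ r ∈ R, ∀ g : G, cm r g ∈ R := fun r hr g => by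
    rw [show cm r g = r * (g * r⁻¹ * g⁻¹) by simp [cm, mul_assoc]]
    exact R.mul_mem hr (hRn g _ (R.inv_mem hr))
  have hcmul : ∀ a ∈ R, ∀ b ∈ R, ∀ g : G, f (cm (a * b) g) = f (cm a g) * f (cm b g) := by
    intro a ha b hb g
    rw [show cm (a * b) g = a * cm b g * a⁻¹ * cm a g by simp [cm, mul_assoc], map_mul, map_mul,
      map_mul, map_inv, hab _ (mem_map_of_mem f ha) _ (mem_map_of_mem f (hcmR b hb g)),
      mul_inv_cancel_right]
    exact hab _ (mem_map_of_mem f (hcmR b hb g)) _ (mem_map_of_mem f (hcmR a ha g))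
  -- the `q`-part is generated by commutators with `C`
  have hm0 : 0 < Q.relIndex R := Nat.pos_of_ne_zero fun h => hidx (h ▸ dvd_zero q)
  set m := Q.relIndex R with hm
  have hgen : ∀ r ∈ R, ∀ c : G, ∃ a ∈ Q, f r ^ m = f a := by
    intro r hr c
    let S : Sylow q R := (hQp.comap_subtype (K := R)).toSylow (by exact hidx)
    let fR : R →* R.map f := f.subgroupMap R
    haveI : ((S : Subgroup R).map fR).Normal := ⟨fun a ha b => by
      rw [show b * a * b⁻¹ = a from Subtype.ext (by
        show (b : G ⧸ K) * a * (b : G ⧸ K)⁻¹ = a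
        rw [hab _ b.2 _ a.2, mul_inv_cancel_right])]
      exact ha⟩
    have h1 : fR ⟨r, hr⟩ ^ ((S : Subgroup R).map fR).index ∈ (S : Subgroup R).map fR :=
      pow_index_mem _ _
    have h2 : ((S : Subgroup R).map fR).index ∣ m :=
      (S : Subgroup R).index_map_dvd (f.subgroupMap_surjective R)
    obtain ⟨d, hd⟩ := h2
    have h3 : fR ⟨r, hr⟩ ^ m ∈ (S : Subgroup R).map fR := by
      rw [hd, pow_mul]; exact pow_mem h1 d
    obtain ⟨s, hs, hse⟩ := h3
    exact ⟨(s : G), mem_subgroupOf.mp hs, (congrArg Subtype.val hse).symm⟩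
  induction j with
  | zero =>
    exact fun x hx => mem_sup_left (subset_closure ⟨hx, trivial⟩)
  | succ j ih =>
    set S' := Subgroup.closure {x | x ∈ Q ∧ Val (j + 1) x} ⊔ K with hS'
    have hstep : ∀ a ∈ Q, ∀ c ∈ C, f (cm a c) ∈ S'.map f := by
      intro a ha c hc
      have ha' := ih ha
      obtain ⟨b, hb, κ, hκ, rfl⟩ := mem_sup_of_normal_right.mp ha'
      rw [cm_map, map_mul, hf1 κ hκ, mul_one, ← cm_map]
      clear ha' ha hκ
      induction hb using Subgroup.closure_induction with
      | mem v hv =>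
        refine mem_map_of_mem f (mem_sup_left (subset_closure ⟨?_, v, c, hv.2, rfl⟩))
        rw [show cm v c = v * (c * v⁻¹ * c⁻¹) by simp [cm, mul_assoc]]
        exact Q.mul_mem hv.1 ((mem_normalizer_iff.mp hc _).mp (Q.inv_mem hv.1))
      | one => simp [cm]
      | mul v₁ v₂ h₁ h₂ ih₁ ih₂ =>
        have hle : Subgroup.closure {x | x ∈ Q ∧ Val j x} ≤ R :=
          (Subgroup.closure_le _).mpr fun x hx => hQR hx.1
        rw [hcmul _ (hle h₁) _ (hle h₂) c]
        exact mul_mem ih₁ ih₂
      | inv v h₁ ih₁ =>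
        have hle : Subgroup.closure {x | x ∈ Q ∧ Val j x} ≤ R :=
          (Subgroup.closure_le _).mpr fun x hx => hQR hx.1
        have h := hcmul v⁻¹ (inv_mem (hle h₁)) v (hle h₁) c
        rw [inv_mul_cancel, show cm (1 : G) c = 1 by simp [cm], map_one] at h
        rw [eq_inv_of_mul_eq_one_left h.symm]
        exact inv_mem ih₁
    have hW : ∀ r ∈ R, f r ^ m ∈ S'.map f := by
      let W : Subgroup G :=
        { carrier := {r | r ∈ R ∧ f r ^ m ∈ S'.map f}
          one_mem' := ⟨one_mem _, by rw [map_one, one_pow]; exact one_mem _⟩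
          mul_mem' := fun {a b} ha hb => ⟨mul_mem ha.1 hb.1, by
            rw [map_mul, Commute.mul_pow (hab _ (mem_map_of_mem f ha.1) _ (mem_map_of_mem f hb.1))]
            exact mul_mem ha.2 hb.2⟩
          inv_mem' := fun {a} ha => ⟨inv_mem ha.1, by
            rw [map_inv, inv_pow]; exact inv_mem ha.2⟩ }
      have hRW : ⁅R, (⊤ : Subgroup G)⁆ ≤ W := by
        rw [Subgroup.commutator_le]
        intro r hr g _
        rw [← cm_eq_commutatorElement]
        refine ⟨hcmR r hr g, ?_⟩
        obtain ⟨r₀, hr₀, c, hc, rfl⟩ := hRC g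
        have h1 : f (cm r (r₀ * c)) = f (cm r c) := by
          rw [show cm r (r₀ * c) = cm r r₀ * (r₀ * cm r c * r₀⁻¹) by simp [cm, mul_assoc],
            map_mul, map_mul, map_mul, map_inv,
            hab _ (mem_map_of_mem f hr₀) _ (mem_map_of_mem f (hcmR r hr c)), mul_inv_cancel_right,
            cm_map, cm, hab _ (mem_map_of_mem f hr) _ (mem_map_of_mem f hr₀)]
          group
        rw [h1]
        obtain ⟨a, ha, hae⟩ := hgen r hr c
        have h2 : f (cm r c) ^ m = f (cm a c) := by
          have hcr : f c * (f r)⁻¹ * (f c)⁻¹ ∈ R.map f :=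
            ⟨c * r⁻¹ * c⁻¹, hRn c _ (R.inv_mem hr), by simp⟩
          rw [cm_map, cm_map, cm, cm,
            show f r * f c * (f r)⁻¹ * (f c)⁻¹ = f r * (f c * (f r)⁻¹ * (f c)⁻¹) by group,
            Commute.mul_pow (hab _ (mem_map_of_mem f hr) _ hcr), conj_pow, inv_pow, hae]
          group
        rw [h2]
        exact hstep a ha c hc
      intro r hr
      exact (hRW (hR.symm ▸ hr : r ∈ ⁅R, (⊤ : Subgroup G)⁆)).2
    intro a ha
    obtain ⟨i, hi⟩ := IsPGroup.iff_orderOf.mp hQp ⟨a, ha⟩
    rw [Subgroup.orderOf_mk] at hi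
    obtain ⟨l, hl⟩ := exists_pow_eq_self_of_coprime (n := m) (x := a) (by
      rw [hi]; exact (((hq.out.coprime_iff_not_dvd).mpr hidx).pow_left i).symm)
    have h1 : f a ∈ S'.map f := by
      have h := (S'.map f).pow_mem (hW a (hQR ha)) l
      rwa [← map_pow, ← map_pow, hl] at h
    obtain ⟨s, hs, hse⟩ := h1
    have h2 : s⁻¹ * a ∈ K := (QuotientGroup.eq_one_iff _).mp (by
      show f (s⁻¹ * a) = 1; rw [map_mul, map_inv, hse, inv_mul_cancel])
    have := S'.mul_mem hs (mem_sup_right h2 : s⁻¹ * a ∈ S')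
    rwa [mul_inv_cancel_left] at this

end CfsgLib.CoprimeValues
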