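import Cfsg.Agent.Lib.CoprimeValues.Perfect
import Cfsg.Agent.Lib.CoprimeValues.Solvable
import Cfsg.Agent.Lib.NilpPerm.Bound

/-!
Nilpotency of a term of the lower central series from coprime commutator values, given the odd
order theorem.
-/

set_option autoImplicit false
set_option linter.style.haveILetI false
set_option linter.unusedVariables false
set_option linter.unusedSectionVars false

open Subgroup
open scoped commutatorElement

namespace CfsgLib.CoprimeValues

theorem sylow_unique {K : Type*} [Group K] [Finite K] [Group.IsNilpotent K] {p : ℕ} [Fact p.Prime]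
    (S : Sylow p K) {v : K} {a : ℕ} (hv : orderOf v = p ^ a) : v ∈ (S : Subgroup K) := by
  have hn : (S : Subgroup K).Normal := inferInstance
  obtain ⟨T, hT⟩ := (IsPGroup.of_card (n := a) (by rw [Nat.card_zpowers, hv]) :
    IsPGroup p (zpowers v)).exists_le_sylow
  haveI : Unique (Sylow p K) := Sylow.unique_of_normal S hn
  exact Subsingleton.elim T S ▸ hT (mem_zpowers v)

variable {G : Type*} [Group G] [Finite G] [Group.IsSolvable G] {k : ℕ}

/-- In a solvable minimal counterexample the nilpotent residual is nilpotent. -/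
theorem residual_isNilpotent (h : Hyp k G)
    (hsub : ∀ K : Subgroup G, K ≠ ⊤ →
      Group.IsNilpotent ↥((⊤ : Subgroup K).lowerCentralSeries k)) :
    Group.IsNilpotent (residual G) := by
  by_contra hcon
  set f := QuotientGroup.mk' (frattini G) with hf
  have hfs : Function.Surjective f := QuotientGroup.mk'_surjective _
  have hRbar : ¬ Group.IsNilpotent (residual (G ⧸ frattini G)) := fun hn => hcon
    (Solvable.isNilpotent_of_map_mk'_isNilpotent (residual G) (frattini G) le_rfl
      (by rw [map_residual _ hfs]; exact hn))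
  haveI : Group.IsSolvable (G ⧸ frattini G) := Group.isSolvable_of_surjective (f := f) hfs
  -- the residual is nilpotent modulo every nontrivial normal subgroup
  have hquot : ∀ (N : Subgroup (G ⧸ frattini G)) [N.Normal], N ≠ ⊥ →
      Group.IsNilpotent ↥((residual (G ⧸ frattini G)).map (QuotientGroup.mk' N)) := by
    intro N _ hN
    have hNfr : ¬ N.comap f ≤ frattini G := fun hle => hN (by
      rw [← map_comap_eq_self_of_surjective hfs N, Subgroup.map_eq_bot_iff, hf,
        QuotientGroup.ker_mk']
      exact hle)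
    obtain ⟨M, hM, hMN⟩ : ∃ M : Subgroup G, IsCoatom M ∧ ¬ N.comap f ≤ M := by
      by_contra hc
      push Not at hc
      exact hNfr (show N.comap f ≤ Order.radical (Subgroup G) from le_iInf₂ fun M hM => hc M hM)
    have hsup : M ⊔ N.comap f = ⊤ := hM.2 _ (left_lt_sup.mpr hMN)
    let g : M →* (G ⧸ frattini G) ⧸ N := ((QuotientGroup.mk' N).comp f).comp M.subtype
    have hg : Function.Surjective g := fun q => by
      obtain ⟨x, rfl⟩ := ((QuotientGroup.mk'_surjective N).comp hfs) q
      obtain ⟨m, hm, n, hn, rfl⟩ := Subgroup.mem_sup_of_normal_right.mp (hsup ▸ mem_top x)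
      refine ⟨⟨m, hm⟩, ?_⟩
      show QuotientGroup.mk' N (f m) = QuotientGroup.mk' N (f (m * n))
      rw [map_mul, map_mul, show QuotientGroup.mk' N (f n) = 1 from
        (QuotientGroup.eq_one_iff _).mpr hn, mul_one]
    rw [map_residual _ (QuotientGroup.mk'_surjective N), ← map_residual g hg]
    exact isNilpotent_map (isNilpotent_of_le (hsub M hM.1) (residual_le k)) g
  set Gb := G ⧸ frattini G with hGb
  have hRne : residual Gb ≠ ⊥ := fun h0 => hRbar (by
    rw [h0]; exact Solvable.isNilpotent_of_comm fun a b => Subsingleton.elim _ _)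
  obtain ⟨N, hNn, hN1, hNR, hNmin⟩ := Solvable.exists_minimal_normal_le (residual Gb) hRne
  haveI := hNn
  obtain ⟨hNc, p, hp, hNp⟩ := Solvable.minimal_normal_elementary_abelian N hN1 hNmin
  haveI : Fact p.Prime := ⟨hp⟩
  have hNpg : IsPGroup p N := fun x => ⟨1, Subtype.ext (by simpa using hNp x x.2)⟩
  have huniq : ∀ M : Subgroup Gb, M.Normal → M ≠ ⊥ → N ≤ M := by
    intro M hM hM1
    haveI := hM
    rcases hNmin (N ⊓ M) inferInstance inf_le_left with h0 | h0
    · exfalso
      haveI := hquot N hN1
      haveI := hquot M hM1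
      let φ : residual Gb →* (residual Gb).map (QuotientGroup.mk' N) ×
          (residual Gb).map (QuotientGroup.mk' M) :=
        ((QuotientGroup.mk' N).subgroupMap (residual Gb)).prod
          ((QuotientGroup.mk' M).subgroupMap (residual Gb))
      refine hRbar (Subgroup.isNilpotent_of_ker_le_center φ fun x hx => ?_)
      have h1 : (x : Gb) ∈ N ⊓ M := by
        rw [MonoidHom.mem_ker, Prod.ext_iff] at hx
        exact ⟨(QuotientGroup.eq_one_iff _).mp (congrArg Subtype.val hx.1),
          (QuotientGroup.eq_one_iff _).mp (congrArg Subtype.val hx.2)⟩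
      rw [h0, mem_bot] at h1
      rw [show x = 1 from Subtype.ext h1]
      exact one_mem _
    · exact h0 ▸ inf_le_right
  -- the Fitting subgroup is a `p`-group
  have hP : Cfsg.fittingSubgroup Gb = Cfsg.pCore p Gb := by
    refine le_antisymm ?_ Solvable.pCore_le_fittingSubgroup
    rw [Solvable.fittingSubgroup_eq_iSup_pCore]
    refine iSup_le fun r => ?_
    haveI : Fact (r : ℕ).Prime := ⟨(Nat.mem_primeFactors.1 r.2).1⟩
    by_cases hrp : (r : ℕ) = p
    · rw [hrp]
    · have h0 : Cfsg.pCore (r : ℕ) Gb = ⊥ := by
        by_contra hne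
        have hle := huniq _ (Solvable.pCore_normal (p := (r : ℕ)) Gb) hne
        apply hN1
        rw [eq_bot_iff]
        intro x hx
        exact mem_bot.mpr ((disjoint_def.mp
          (IsPGroup.disjoint_of_ne _ _ hrp _ _ (Solvable.pCore_isPGroup (p := (r : ℕ)) Gb) hNpg))
          (hle hx) hx)
      rw [h0]; exact bot_le
  haveI := Solvable.pCore_normal (p := p) Gb
  set P := Cfsg.pCore p Gb with hPdef
  have hCP : centralizer (P : Set Gb) ≤ P := by
    rw [← hP]; exact Solvable.centralizer_fittingSubgroup_le
  have hNP : N ≤ P := Solvable.le_pCore hNn hNpg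
  set g₂ := QuotientGroup.mk' P with hg₂
  set L := (residual Gb).map g₂ with hL
  haveI : L.Normal := Normal.map inferInstance _ (QuotientGroup.mk'_surjective P)
  haveI hLn : Group.IsNilpotent L := by
    haveI := hquot N hN1
    let ψ : Gb ⧸ N →* Gb ⧸ P := QuotientGroup.map N P (MonoidHom.id Gb) hNP
    have h1 : L = ((residual Gb).map (QuotientGroup.mk' N)).map ψ := by
      rw [hL, Subgroup.map_map]
      rfl
    rw [h1]
    exact isNilpotent_map inferInstance ψ
  have hLne : L ≠ ⊥ := fun h0 => hRbar (by
    rw [hL, Subgroup.map_eq_bot_iff, hg₂, QuotientGroup.ker_mk'] at h0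
    exact isNilpotent_of_le (Solvable.pCore_isPGroup (p := p) Gb).isNilpotent h0)
  have hLp : ¬ p ∣ Nat.card L := by
    intro hd
    obtain ⟨S⟩ : Nonempty (Sylow p L) := inferInstance
    haveI : (S : Subgroup L).Characteristic := Sylow.characteristic_of_normal _ inferInstance
    haveI : ((S : Subgroup L).map L.subtype).Normal := ConjAct.normal_of_characteristic_of_normal
    have h1 := Solvable.le_pCore (p := p) (inferInstance : ((S : Subgroup L).map L.subtype).Normal)
      (S.isPGroup'.map _)
    rw [Solvable.pCore_quotient_eq_bot P rfl, le_bot_iff,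
      Subgroup.map_eq_bot_iff_of_injective _ L.subtype_injective] at h1
    exact S.ne_bot_of_dvd_card hd h1
  have hLL : ⁅L, L⁆ ≠ L := by
    intro h0
    haveI : Group.IsPerfect L := Subgroup.isPerfect_iff.2 h0
    haveI : Nontrivial L := (nontrivial_iff_ne_bot L).mpr hLne
    haveI : Group.IsSolvable L := inferInstance
    exact (IsSolvable.commutator_lt_top_of_nontrivial L).ne (Group.IsPerfect.commutator_eq_top)
  -- a prime dividing the abelianisation
  set h₂ := g₂.comp f with hh₂
  have hh₂s : Function.Surjective h₂ := (QuotientGroup.mk'_surjective P).comp hfs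
  set K := residual G ⊓ (⁅L, L⁆ : Subgroup (Gb ⧸ P)).comap h₂ with hK
  have hRmap : (residual G).map h₂ = L := by rw [hh₂, ← Subgroup.map_map, map_residual f hfs]
  have hKidx : K.relIndex (residual G) = (⁅L, L⁆ : Subgroup (Gb ⧸ P)).relIndex L := by
    rw [hK, inf_relIndex_left, relIndex_comap, hRmap]
  obtain ⟨q, hq, hqd⟩ := Nat.exists_prime_and_dvd (n := (⁅L, L⁆ : Subgroup (Gb ⧸ P)).relIndex L)
    fun h1 => hLL (le_antisymm (commutator_le_left L L) (relIndex_eq_one.mp h1))
  haveI : Fact q.Prime := ⟨hq⟩
  have hqp : q ≠ p := fun h0 => hLp (h0 ▸ hqd.trans (relIndex_dvd_card _ _))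
  obtain ⟨S⟩ : Nonempty (Sylow q (residual G)) := inferInstance
  set Q := (S : Subgroup (residual G)).map (residual G).subtype with hQ
  have hQidx : ¬ q ∣ Q.relIndex (residual G) := by
    rw [hQ, relIndex, subgroupOf, comap_map_eq_self_of_injective (residual G).subtype_injective]
    exact S.not_dvd_index
  haveI : K.Normal := by
    rw [hK]
    infer_instance
  have hQK : Q ≤ K := by
    refine (le_closure_val_sup (residual G) K commutator_residual ?_ Q (map_subtype_le _)
      (S.isPGroup'.map _) hQidx k).trans (sup_le ((Subgroup.closure_le _).mpr ?_) le_rfl)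
    · refine le_inf (commutator_le_left _ _) ?_
      rw [← Subgroup.map_le_iff_le_comap, Subgroup.map_commutator, hRmap]
    rintro x ⟨hxQ, hxv⟩
    refine ⟨map_subtype_le _ hxQ, ?_⟩
    obtain ⟨a, ha⟩ := IsPGroup.iff_orderOf.mp (S.isPGroup'.map (residual G).subtype) ⟨x, hxQ⟩
    rw [Subgroup.orderOf_mk] at ha
    -- the value centralizes the Fitting subgroup of the quotient
    have hxC : f x ∈ centralizer (P : Set Gb) := by
      intro y hy
      have hy' : y ∈ (Cfsg.fittingSubgroup G).map f := by
        rw [← Solvable.fittingSubgroup_quotient_frattini, hP]; exact hy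
      obtain ⟨y₀, hy₀, rfl⟩ := hy'
      haveI := Solvable.fittingSubgroup_normal G
      haveI := Solvable.fittingSubgroup_isNilpotent G
      obtain ⟨T⟩ : Nonempty (Sylow p (Cfsg.fittingSubgroup G)) := inferInstance
      haveI : (T : Subgroup (Cfsg.fittingSubgroup G)).Characteristic :=
        Sylow.characteristic_of_normal _ inferInstance
      haveI : ((T : Subgroup (Cfsg.fittingSubgroup G)).map
          (Cfsg.fittingSubgroup G).subtype).Normal := ConjAct.normal_of_characteristic_of_normal
      set m := (T : Subgroup (Cfsg.fittingSubgroup G)).index with hm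
      have hym : y₀ ^ m ∈ (T : Subgroup (Cfsg.fittingSubgroup G)).map
          (Cfsg.fittingSubgroup G).subtype :=
        ⟨_, Subgroup.pow_index_mem _ ⟨y₀, hy₀⟩, rfl⟩
      obtain ⟨i, hi⟩ := IsPGroup.iff_card.mp (T.isPGroup'.map (Cfsg.fittingSubgroup G).subtype)
      have hc := mem_centralizer_of_normal h hq hxv ha
        ((T : Subgroup (Cfsg.fittingSubgroup G)).map (Cfsg.fittingSubgroup G).subtype)
        (by rw [hi]; exact Nat.Coprime.pow_left i ((Nat.coprime_primes hp hq).mpr (Ne.symm hqp)))
        _ hym
      obtain ⟨b, hb⟩ := IsPGroup.iff_orderOf.mp (Solvable.pCore_isPGroup (p := p) Gb) ⟨f y₀, hy⟩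
      rw [Subgroup.orderOf_mk] at hb
      obtain ⟨l, hl⟩ := exists_pow_eq_self_of_coprime (n := m) (x := f y₀) (by
        rw [hb]; exact (((hp.coprime_iff_not_dvd).mpr T.not_dvd_index).pow_left b).symm)
      rw [← hl]
      have hcm : Commute (f y₀ ^ m) (f x) := by
        rw [← map_pow]; exact (show Commute (y₀ ^ m) x from hc).map f
      exact (hcm.pow_left l).eq
    have hxP := hCP hxC
    obtain ⟨b, hb⟩ := IsPGroup.iff_orderOf.mp (Solvable.pCore_isPGroup (p := p) Gb) ⟨f x, hxP⟩
    rw [Subgroup.orderOf_mk] at hb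
    have hx1 : f x = 1 := orderOf_eq_one_iff.mp (Nat.eq_one_of_dvd_coprimes
      ((Nat.coprime_primes hp hq).mpr (Ne.symm hqp) |>.pow b a) (dvd_of_eq hb)
      ((orderOf_map_dvd f x).trans (dvd_of_eq ha)))
    show x ∈ (⁅L, L⁆ : Subgroup (Gb ⧸ P)).comap h₂
    rw [mem_comap]
    rw [hh₂, MonoidHom.comp_apply, hx1, map_one]
    exact one_mem _
  apply hQidx
  rw [← hKidx] at hqd
  exact hqd.trans (relIndex_dvd_of_le_left _ hQK)

/-- The solvable case. -/
theorem isNilpotent_of_solvable (h : Hyp k G)
    (hsub : ∀ K : Subgroup G, K ≠ ⊤ →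
      Group.IsNilpotent ↥((⊤ : Subgroup K).lowerCentralSeries k)) :
    Group.IsNilpotent ↥((⊤ : Subgroup G).lowerCentralSeries k) := by
  have hRnil := residual_isNilpotent h hsub
  set R := residual G with hR
  haveI := hRnil
  obtain ⟨C, -, hC⟩ := exists_minimal_le_of_wellFoundedLT
    (fun C : Subgroup G => R ⊔ C = ⊤) ⊤ (sup_top_eq R)
  have hRC : R ⊔ C = ⊤ := hC.1
  haveI hCnil : Group.IsNilpotent C := by
    haveI := isNilpotent_quotient_residual (G := G)
    let g : C →* G ⧸ R := (QuotientGroup.mk' R).comp C.subtype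
    have hgker : g.ker ≤ frattini C := by
      show g.ker ≤ Order.radical (Subgroup C)
      refine le_iInf₂ fun M hM => ?_
      by_contra hle
      have hsup : M ⊔ g.ker = ⊤ := hM.2 _ (left_lt_sup.mpr hle)
      have htop : R ⊔ M.map C.subtype = ⊤ := by
        refine top_le_iff.mp (hRC.ge.trans (sup_le le_sup_left fun c hc => ?_))
        obtain ⟨m, hm, d, hd, hmd⟩ :=
          Subgroup.mem_sup_of_normal_right.mp (hsup ▸ mem_top (⟨c, hc⟩ : C))
        rw [show c = (m : G) * (d : G) from (congrArg Subtype.val hmd).symm]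
        exact mul_mem (mem_sup_right ⟨m, hm, rfl⟩)
          (mem_sup_left ((QuotientGroup.eq_one_iff _).mp hd))
      refine hM.1 (eq_top_iff.mpr fun c _ => ?_)
      obtain ⟨m, hm, hmc⟩ := hC.2 htop (map_subtype_le M) c.2
      exact Subtype.ext hmc ▸ hm
    have hq : Group.IsNilpotent (C ⧸ g.ker) :=
      Subgroup.isNilpotent_of_ker_le_center (QuotientGroup.kerLift g)
        (by rw [(MonoidHom.ker_eq_bot_iff _).mpr (QuotientGroup.kerLift_injective g)]; exact bot_le)
    have := Solvable.isNilpotent_of_map_mk'_isNilpotent (⊤ : Subgroup C) g.ker hgker (by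
      rw [map_top_of_surjective _ (QuotientGroup.mk'_surjective g.ker)]
      exact Group.isNilpotent_top.mpr hq)
    exact Group.isNilpotent_top.mp this
  haveI := Solvable.fittingSubgroup_normal G
  set F := Cfsg.fittingSubgroup G with hF
  have hRF : R ≤ F := Solvable.le_fittingSubgroup inferInstance hRnil
  -- values of prime power order in `C` lie in `F`
  have hpv : ∀ v ∈ C, Val k v → ∀ (p : ℕ), p.Prime → ∀ a, orderOf v = p ^ a → v ∈ F := by
    intro v hvC hv p hp a hva
    haveI : Fact p.Prime := ⟨hp⟩
    obtain ⟨T⟩ : Nonempty (Sylow p R) := inferInstance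
    haveI : (T : Subgroup R).Characteristic := Sylow.characteristic_of_normal _ inferInstance
    set Rp := (T : Subgroup R).map R.subtype with hRp
    haveI : Rp.Normal := ConjAct.normal_of_characteristic_of_normal
    set V := {w : G | w ∈ C ∧ Val k w ∧ ∃ b, orderOf w = p ^ b} with hV
    set W := Rp ⊔ Subgroup.closure V with hW
    have hWp : IsPGroup p W := by
      refine IsPGroup.to_sup_of_normal_left (T.isPGroup'.map _) ?_
      obtain ⟨S⟩ : Nonempty (Sylow p C) := inferInstance
      refine (S.isPGroup'.map C.subtype).to_le ((Subgroup.closure_le _).mpr fun w hw => ?_)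
      obtain ⟨hwC, -, b, hb⟩ := hw
      exact ⟨⟨w, hwC⟩, sylow_unique S (a := b) (by rw [Subgroup.orderOf_mk, hb]), rfl⟩
    have hWn : normalizer (W : Set G) = ⊤ := by
      rw [eq_top_iff, ← hRC]
      refine sup_le (fun r hr => ?_) (fun c hc => ?_)
      · refine Components.mem_normalizer_of_conj_le fun x hx => ?_
        have hgen : W ≤ W.comap (MulAut.conj r).toMonoidHom := by
          refine sup_le (fun y hy => mem_sup_left ((inferInstance : Rp.Normal).conj_mem y hy r))
            ((Subgroup.closure_le _).mpr fun w hw => ?_)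
          obtain ⟨hwC, hwv, b, hwb⟩ := hw
          show r * w * r⁻¹ ∈ W
          have hρ : r * w * r⁻¹ * w⁻¹ ∈ Rp := by
            set M := R ⊓ (centralizer ({QuotientGroup.mk' Rp w} : Set (G ⧸ Rp))).comap
              (QuotientGroup.mk' Rp) with hM
            have hidx : M.relIndex R = 1 := by
              by_contra hne
              obtain ⟨s, hs, hsd⟩ := Nat.exists_prime_and_dvd hne
              haveI : Fact s.Prime := ⟨hs⟩
              obtain ⟨U⟩ : Nonempty (Sylow s R) := inferInstance
              refine U.not_dvd_index ((show s ∣ (M.subgroupOf R).index from hsd).trans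
                (index_dvd_of_le fun u hu => mem_subgroupOf.mpr ⟨u.2,
                  mem_comap.mpr (mem_centralizer_singleton_iff.mpr ?_)⟩))
              by_cases hsp : s = p
              · subst hsp
                haveI : Unique (Sylow s R) := Sylow.unique_of_normal T inferInstance
                have hu' : (u : G) ∈ Rp :=
                  ⟨u, (Subsingleton.elim U T) ▸ hu, rfl⟩
                rw [show QuotientGroup.mk' Rp (u : G) = 1 from
                  (QuotientGroup.eq_one_iff _).mpr hu', one_mul, mul_one]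
              · haveI : (U : Subgroup R).Characteristic :=
                  Sylow.characteristic_of_normal _ inferInstance
                haveI : ((U : Subgroup R).map R.subtype).Normal :=
                  ConjAct.normal_of_characteristic_of_normal
                obtain ⟨i, hi⟩ := IsPGroup.iff_card.mp (U.isPGroup'.map R.subtype)
                have hc := mem_centralizer_of_normal h hp hwv hwb ((U : Subgroup R).map R.subtype)
                  (by rw [hi]; exact Nat.Coprime.pow_left i ((Nat.coprime_primes hs hp).mpr hsp))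
                  (u : G) ⟨u, hu, rfl⟩
                rw [← map_mul, ← map_mul, hc]
            have h1 := mem_centralizer_singleton_iff.mp (mem_comap.mp (relIndex_eq_one.mp hidx hr).2)
            rw [← QuotientGroup.eq_one_iff (N := Rp), ← QuotientGroup.mk'_apply, map_mul, map_mul,
              map_mul, map_inv, map_inv, h1, mul_inv_cancel_right, mul_inv_cancel]
          have := W.mul_mem (mem_sup_left hρ : r * w * r⁻¹ * w⁻¹ ∈ W)
            (mem_sup_right (subset_closure ⟨hwC, hwv, b, hwb⟩) : w ∈ W)
          rwa [inv_mul_cancel_right] at this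
        exact hgen hx
      · refine Components.mem_normalizer_of_conj_le fun x hx => ?_
        have hgen : W ≤ W.comap (MulAut.conj c).toMonoidHom := by
          refine sup_le (fun y hy => mem_sup_left ((inferInstance : Rp.Normal).conj_mem y hy c))
            ((Subgroup.closure_le _).mpr fun w hw => mem_sup_right (subset_closure
              ⟨C.mul_mem (C.mul_mem hc hw.1) (C.inv_mem hc), val_conj hw.2.1 c, ?_⟩))
          obtain ⟨b, hb⟩ := hw.2.2
          exact ⟨b, ((MulAut.conj c).orderOf_eq w).trans hb⟩
        exact hgen hx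
    haveI : W.Normal := normalizer_eq_top_iff.mp hWn
    exact Solvable.le_fittingSubgroup inferInstance hWp.isNilpotent
      (mem_sup_right (subset_closure ⟨hvC, hv, a, hva⟩))
  -- all values in `C` lie in `F`
  have hall : ∀ x : C, Val k x → (x : G) ∈ F := by
    intro x hx
    obtain ⟨e⟩ := (Group.isNilpotent_of_finite_tfae (G := C)).out 0 4 rfl rfl |>.mp inferInstance
    classical
    suffices hs : e.symm x ∈ (F.comap C.subtype).comap e.toMonoidHom by
      simpa [Subgroup.mem_subgroupOf] using hs
    refine pi_mem_of_mulSingle_mem _ fun i => ?_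
    haveI : Fact (i : ℕ).Prime := ⟨Nat.prime_of_mem_primeFactors i.2⟩
    haveI : Unique (Sylow (i : ℕ) C) := Sylow.unique_of_normal default inferInstance
    let π : (∀ p : (Nat.card C).primeFactors, ∀ P : Sylow p C, (P : Subgroup C)) →*
        (∀ p : (Nat.card C).primeFactors, ∀ P : Sylow p C, (P : Subgroup C)) :=
      (MonoidHom.mulSingle (fun p : (Nat.card C).primeFactors => ∀ P : Sylow p C, (P : Subgroup C)) i).comp
        (Pi.evalMonoidHom _ i)
    show (C.subtype (e (π (e.symm x)))) ∈ F
    have hv : Val k ((C.subtype.comp (e.toMonoidHom.comp (π.comp e.symm.toMonoidHom))) x) :=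
      val_map _ hx
    have hpg : IsPGroup (i : ℕ) (∀ P : Sylow (i : ℕ) C, (P : Subgroup C)) := by
      intro y
      obtain ⟨P₀⟩ : Nonempty (Sylow (i : ℕ) C) := inferInstance
      obtain ⟨j, hj⟩ := P₀.isPGroup' (y P₀)
      refine ⟨j, funext fun P => ?_⟩
      rw [Subsingleton.elim P P₀, Pi.pow_apply]
      exact hj
    obtain ⟨b, hb⟩ := IsPGroup.iff_orderOf.mp hpg (e.symm x i)
    have hdvd : orderOf (C.subtype (e (π (e.symm x)))) ∣ (i : ℕ) ^ b := by
      rw [← hb]
      exact orderOf_map_dvd (C.subtype.comp (e.toMonoidHom.comp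
        (MonoidHom.mulSingle (fun p : (Nat.card C).primeFactors => ∀ P : Sylow p C, (P : Subgroup C)) i)))
        (e.symm x i)
    obtain ⟨b', -, hb'⟩ := (Nat.dvd_prime_pow (Fact.out : (i : ℕ).Prime)).mp hdvd
    exact hpv _ (Subtype.coe_prop _) hv _ Fact.out b' hb'
  refine isNilpotent_of_le (Solvable.fittingSubgroup_isNilpotent G) (lcs_le_of_val k F fun y hy => ?_)
  let g : C →* G ⧸ F := (QuotientGroup.mk' F).comp C.subtype
  have hg : Function.Surjective g := fun q => by
    obtain ⟨z, rfl⟩ := QuotientGroup.mk'_surjective F q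
    obtain ⟨r, hr, c, hc, rfl⟩ := Subgroup.mem_sup_of_normal_left.mp (hRC ▸ mem_top z)
    refine ⟨⟨c, hc⟩, ?_⟩
    show QuotientGroup.mk' F c = QuotientGroup.mk' F (r * c)
    rw [map_mul, show QuotientGroup.mk' F r = 1 from (QuotientGroup.eq_one_iff r).mpr (hRF hr),
      one_mul]
  obtain ⟨x, hx, hxe⟩ := val_lift g hg (val_map (QuotientGroup.mk' F) hy)
  rw [← QuotientGroup.eq_one_iff, ← QuotientGroup.mk'_apply, ← hxe]
  exact (QuotientGroup.eq_one_iff _).mpr (hall x hx)

universe u

/-- Backward direction, given the odd order theorem. -/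
theorem isNilpotent_lcs
    (hFT : ∀ (X : Type u) [Group X] [Finite X], Odd (Nat.card X) → Group.IsSolvable X) (k : ℕ) :
    ∀ (n : ℕ) (G : Type u) [Group G] [Finite G], Nat.card G = n → Hyp k G →
      Group.IsNilpotent ↥((⊤ : Subgroup G).lowerCentralSeries k) := by
  intro n
  induction n using Nat.strong_induction_on with
  | _ n ih =>
  intro G _ _ hn h
  have hsub : ∀ K : Subgroup G, K ≠ ⊤ →
      Group.IsNilpotent ↥((⊤ : Subgroup K).lowerCentralSeries k) := by
    intro K hK
    refine ih (Nat.card K) ?_ K rfl (h.subgroup K)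
    rw [← hn]
    exact lt_of_le_of_ne (card_le_card_group K) fun he => hK (eq_top_of_card_eq K he)
  have hsolv : ∀ {K : Type u} [Group K] [Finite K],
      Group.IsNilpotent ↥((⊤ : Subgroup K).lowerCentralSeries k) → Group.IsSolvable K := by
    intro K _ _ hK
    haveI := hK
    set N := (⊤ : Subgroup K).lowerCentralSeries k with hN
    haveI : Group.IsNilpotent (K ⧸ N) := Subgroup.nilpotent_iff_lowerCentralSeries.mpr ⟨k, by
      rw [← map_top_of_surjective _ (QuotientGroup.mk'_surjective N), ← map_lowerCentralSeries,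
        ← hN, Subgroup.map_eq_bot_iff, QuotientGroup.ker_mk']⟩
    exact Group.isSolvable_of_ker_le_range N.subtype (QuotientGroup.mk' N)
      (by rw [QuotientGroup.ker_mk', Subgroup.range_subtype])
  by_cases hG : Group.IsSolvable G
  · haveI := hG
    exact isNilpotent_of_solvable h hsub
  · refine (false_of_perfect hFT h (fun K hK => hsolv (hsub K hK)) ?_ hG).elim
    by_contra hne
    apply hG
    haveI := hsolv (hsub _ hne)
    exact Group.isSolvable_of_ker_le_range (commutator G).subtype Abelianization.of
      (by rw [Abelianization.ker_of, Subgroup.range_subtype])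

/-- Forward direction. -/
theorem hyp_of_isNilpotent {G : Type*} [Group G] [Finite G] {k : ℕ}
    (h : Group.IsNilpotent ↥((⊤ : Subgroup G).lowerCentralSeries k)) : Hyp k G := by
  intro x y hx hy hc
  haveI := h
  have hcomm : Commute (⟨x, val_mem_lcs hx⟩ : ↥((⊤ : Subgroup G).lowerCentralSeries k))
      ⟨y, val_mem_lcs hy⟩ := CfsgLib.NilpPerm.commute_of_coprime_order
    (by rwa [Subgroup.orderOf_mk, Subgroup.orderOf_mk])
  have hxy : Commute x y := congrArg Subtype.val hcomm.eq
  exact Or.inr (hxy.orderOf_mul_eq_mul_orderOf_of_coprime hc).ge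

end CfsgLib.CoprimeValues
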