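import Cfsg.Agent.Lib.CoprimeValues.Basic
import Cfsg.Agent.Lib.Invol.GlaubermanZStar
import Cfsg.Agent.Lib.Invol.BaerSuzuki
import Mathlib.GroupTheory.Frattini
import Mathlib.GroupTheory.Solvable

/-!
A perfect group with solvable proper subgroups fails the condition on coprime values.
-/

set_option autoImplicit false
set_option linter.style.haveILetI false
set_option linter.unusedVariables false
set_option linter.unusedSectionVars false

open Subgroup

namespace CfsgLib.CoprimeValues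

open CfsgLib.AlperinGroup in
/-- In a simple group of even order an element of odd order moves an involution of some elementary
abelian 2-subgroup it normalizes. -/
theorem exists_mover {H : Type*} [Group H] [Finite H] [IsSimpleGroup H]
    (hna : ∃ a b : H, a * b ≠ b * a) (heven : Even (Nat.card H)) :
    ∃ A : Subgroup H, (∀ a ∈ A, a * a = 1) ∧ (∀ a ∈ A, ∀ b ∈ A, a * b = b * a) ∧
      ∃ u ∈ normalizer (A : Set H), Odd (orderOf u) ∧ ∃ z ∈ A, cm z u ≠ 1 := by
  haveI : Fact (Nat.Prime 2) := ⟨Nat.prime_two⟩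
  classical
  obtain ⟨P⟩ : Nonempty (Sylow 2 H) := inferInstance
  have hPne : (P : Subgroup H) ≠ ⊥ := P.ne_bot_of_dvd_card (even_iff_two_dvd.mp heven)
  haveI : Nontrivial ↥(P : Subgroup H) := (Subgroup.nontrivial_iff_ne_bot _).mpr hPne
  haveI : Nontrivial ↥(center ↥(P : Subgroup H)) := P.isPGroup'.center_nontrivial
  obtain ⟨z₀, hz₀⟩ : ∃ z : ↥(center ↥(P : Subgroup H)), orderOf z = 2 := by
    refine exists_prime_orderOf_dvd_card' 2 ?_
    obtain ⟨n, hn⟩ := IsPGroup.iff_card.mp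
      (P.isPGroup'.to_subgroup (center ↥(P : Subgroup H)))
    rw [hn]
    refine dvd_pow_self 2 fun h => ?_
    rw [h, pow_zero] at hn
    exact (Finite.one_lt_card (α := ↥(center ↥(P : Subgroup H)))).ne' hn
  set z : H := ((z₀ : ↥(P : Subgroup H)) : H) with hzdef
  have hzP : z ∈ (P : Subgroup H) := (z₀ : ↥(P : Subgroup H)).2
  have hzo : orderOf z = 2 := by rw [hzdef, Subgroup.orderOf_coe, Subgroup.orderOf_coe, hz₀]
  have hzc : ∀ x ∈ (P : Subgroup H), x * z = z * x := fun x hx =>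
    congrArg Subtype.val (mem_center_iff.mp z₀.2 ⟨x, hx⟩)
  have hz1 : z ≠ 1 := fun h => by simp [h] at hzo
  obtain ⟨g, hgP, hgne⟩ : ∃ g : H, g⁻¹ * z * g ∈ (P : Subgroup H) ∧ g⁻¹ * z * g ≠ z := by
    by_contra hcon
    push Not at hcon
    obtain ⟨N, hN, hNodd, hNz⟩ := CfsgLib.Invol.zStar_sylow P z hzo fun g hg => by
      have := hcon g⁻¹ (by rw [inv_inv]; exact hg)
      simpa using this
    have hNb : N = ⊥ := hN.eq_bot_or_eq_top.resolve_right fun h => by
      rw [h, card_top] at hNodd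
      exact Nat.not_even_iff_odd.mpr hNodd heven
    have hc : z ∈ center H := mem_center_iff.mpr fun g => by
      have h := hNz g
      rw [hNb, mem_bot, mul_inv_eq_one, mul_inv_eq_iff_eq_mul] at h
      exact h.symm
    rcases (inferInstance : (center H).Normal).eq_bot_or_eq_top with h | h
    · exact hz1 (mem_bot.mp (h ▸ hc))
    · obtain ⟨a, b, hab⟩ := hna
      exact hab (mem_center_iff.mp (h ▸ mem_top b) a)
  obtain ⟨Q, ht, hzD, n, hn, hnz⟩ : ∃ Q : Sylow 2 H, Tame P Q ∧
      z ∈ (P : Subgroup H) ⊓ (Q : Subgroup H) ∧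
      ∃ n ∈ normalizer (((P : Subgroup H) ⊓ (Q : Subgroup H) : Subgroup H) : Set H),
        n⁻¹ * z * n ≠ z := by
    by_contra hcon
    push Not at hcon
    have hch := alperin P {z} g (Set.singleton_subset_iff.mpr hzP)
      (by rw [Set.image_singleton, Set.singleton_subset_iff]; exact hgP)
    exact hgne (Components.chain_fix (m := 0) (fun Q ht _ hyD n hn => hcon Q ht hyD n hn) hch rfl
      (Nat.zero_le _))
  set D := (P : Subgroup H) ⊓ (Q : Subgroup H) with hD
  obtain ⟨c, hc, hn'⟩ := Components.frattini_tame ht hn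
  set R := (P : Subgroup H) ⊓ centralizer (D : Set H) with hR
  set N₀ := normalizer (D : Set H) ⊓ normalizer (R : Set H) with hN₀
  have hzR : z ∈ R := ⟨hzP, fun d hd => hzc d hd.1⟩
  have hzn : (c⁻¹ * n)⁻¹ * z * (c⁻¹ * n) ≠ z := by
    have h1 : z * c = c * z := hc z hzD
    rw [show (c⁻¹ * n)⁻¹ * z * (c⁻¹ * n) = n⁻¹ * (c * z * c⁻¹) * n by group, ← h1,
      mul_inv_cancel_right]
    exact hnz
  have hPN : (P : Subgroup H) ⊓ normalizer (D : Set H) ≤ N₀ := by
    refine le_inf inf_le_right (fun x hx => Components.mem_normalizer_of_conj_le fun r hr => ?_)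
    refine ⟨(P : Subgroup H).mul_mem ((P : Subgroup H).mul_mem hx.1 hr.1)
      ((P : Subgroup H).inv_mem hx.1), fun d hd => ?_⟩
    have h := hr.2 (x⁻¹ * d * x) ((mem_normalizer_iff''.mp hx.2 d).mp hd)
    calc d * (x * r * x⁻¹) = x * ((x⁻¹ * d * x) * r) * x⁻¹ := by group
      _ = x * (r * (x⁻¹ * d * x)) * x⁻¹ := by rw [h]
      _ = x * r * x⁻¹ * d := by group
  obtain ⟨u, huN, huo, huz⟩ : ∃ u ∈ N₀, Odd (orderOf u) ∧ z * u ≠ u * z := by
    by_contra hcon
    push Not at hcon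
    set K := N₀ ⊓ centralizer ({z} : Set H) with hK
    have hK1 : (P : Subgroup H) ⊓ normalizer (D : Set H) ≤ K := le_inf hPN fun x hx =>
      mem_centralizer_singleton_iff.mpr (hzc x hx.1)
    have hidx : K.relIndex N₀ = 1 := by
      by_contra h1
      obtain ⟨r, hr, hrd⟩ := Nat.exists_prime_and_dvd h1
      haveI : Fact r.Prime := ⟨hr⟩
      by_cases hr2 : r = 2
      · subst hr2
        apply ht.1
        have h2 : K.relIndex N₀ ∣ ((P : Subgroup H) ⊓ normalizer (D : Set H)).relIndex N₀ :=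
          Dvd.intro_left _ (relIndex_mul_relIndex _ K N₀ hK1 inf_le_left)
        exact (hrd.trans h2).trans
          (Dvd.intro _ (relIndex_mul_relIndex _ N₀ _ hPN inf_le_left))
      · obtain ⟨T⟩ : Nonempty (Sylow r N₀) := inferInstance
        have hTK : (T : Subgroup N₀) ≤ K.subgroupOf N₀ := fun t ht => by
          refine mem_subgroupOf.mpr ⟨t.2, mem_centralizer_singleton_iff.mpr ?_⟩
          obtain ⟨j, hj⟩ := IsPGroup.iff_orderOf.mp T.isPGroup' ⟨t, ht⟩
          rw [Subgroup.orderOf_mk] at hj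
          exact (hcon t t.2 (by rw [Subgroup.orderOf_coe, hj]; exact (hr.odd_of_ne_two hr2).pow)).symm
        exact T.not_dvd_index ((show r ∣ (K.subgroupOf N₀).index from hrd).trans
          (index_dvd_of_le hTK))
    have h2 := (relIndex_eq_one.mp hidx) (show c⁻¹ * n ∈ N₀ from hn')
    have h3 := mem_centralizer_singleton_iff.mp h2.2
    apply hzn
    rw [mul_assoc, ← h3, inv_mul_cancel_left]
  let A : Subgroup H :=
    { carrier := {a | a ∈ R ∧ a * a = 1 ∧ ∀ r ∈ R, a * r = r * a}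
      one_mem' := ⟨one_mem _, one_mul 1, fun r _ => by simp⟩
      mul_mem' := fun {a b} ha hb => ⟨mul_mem ha.1 hb.1, by
        rw [show a * b * (a * b) = a * (b * a) * b by group, ← ha.2.2 b hb.1,
          show a * (a * b) * b = a * a * (b * b) by group, ha.2.1, hb.2.1, one_mul],
        fun r hr => by
          rw [mul_assoc, hb.2.2 r hr, ← mul_assoc, ha.2.2 r hr, mul_assoc]⟩
      inv_mem' := fun {a} ha => by
        rw [Set.mem_setOf_eq, inv_eq_of_mul_eq_one_right ha.2.1]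
        exact ha }
  refine ⟨A, fun a ha => ha.2.1, fun a ha b hb => ha.2.2 b hb.1, u,
    Components.mem_normalizer_of_conj_le fun a ha => ?_, huo, z, ?_, ?_⟩
  · refine ⟨(mem_normalizer_iff.mp huN.2 a).mp ha.1, ?_, fun r hr => ?_⟩
    · rw [show u * a * u⁻¹ * (u * a * u⁻¹) = u * (a * a) * u⁻¹ by group, ha.2.1, mul_one,
        mul_inv_cancel]
    · have h := ha.2.2 (u⁻¹ * r * u) ((mem_normalizer_iff''.mp huN.2 r).mp hr)
      calc u * a * u⁻¹ * r = u * (a * (u⁻¹ * r * u)) * u⁻¹ := by group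
        _ = u * (u⁻¹ * r * u * a) * u⁻¹ := by rw [h]
        _ = r * (u * a * u⁻¹) := by group
  · refine ⟨hzR, ?_, fun r hr => (hzc r hr.1).symm⟩
    rw [← pow_two, ← hzo, pow_orderOf_eq_one]
  · intro h1
    exact huz (mul_inv_eq_iff_eq_mul.mp (mul_inv_eq_one.mp h1))

theorem isSolvable_of_map_of_ker {G H : Type*} [Group G] [Group H] (f : G →* H)
    [Group.IsSolvable H] [Group.IsSolvable f.ker] : Group.IsSolvable G :=
  Group.isSolvable_of_ker_le_range f.ker.subtype f (Subgroup.range_subtype _).ge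

universe u

/-- A perfect group all of whose proper subgroups are solvable fails the hypothesis. -/
theorem false_of_perfect
    (hFT : ∀ (X : Type u) [Group X] [Finite X], Odd (Nat.card X) → Group.IsSolvable X)
    {G : Type u} [Group G] [Finite G] {k : ℕ} (h : Hyp k G)
    (hsub : ∀ K : Subgroup G, K ≠ ⊤ → Group.IsSolvable K)
    (hperf : commutator G = ⊤) (hns : ¬ Group.IsSolvable G) : False := by
  haveI : Fact (Nat.Prime 2) := ⟨Nat.prime_two⟩
  have hbot : (⊥ : Subgroup G) ≠ ⊤ := fun h0 =>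
    hns (Group.isSolvable_of_top_eq_bot G h0.symm)
  obtain ⟨R, ⟨hRn, hRt⟩, hRmax⟩ := (Set.toFinite {N : Subgroup G | N.Normal ∧ N ≠ ⊤}).exists_maximal
    ⟨⊥, inferInstance, hbot⟩
  haveI := hRn
  haveI hRs : Group.IsSolvable R := hsub R hRt
  set f := QuotientGroup.mk' R with hf
  have hfs : Function.Surjective f := QuotientGroup.mk'_surjective R
  haveI : Group.IsSolvable f.ker := by rw [hf, QuotientGroup.ker_mk']; exact hRs
  have hHns : ¬ Group.IsSolvable (G ⧸ R) := fun hs =>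
    haveI := hs
    hns (isSolvable_of_map_of_ker f)
  have hnor : ∀ N : Subgroup G, N.Normal → N ≠ ⊤ → N ≤ R := by
    intro N hN hNt
    by_contra hle
    have hsup : N ⊔ R = ⊤ := by
      by_contra hne
      exact hle (le_sup_left.trans (hRmax ⟨sup_normal N R, hne⟩ le_sup_right))
    haveI := hsub N hNt
    refine hHns (Group.isSolvable_of_surjective (f := f.comp N.subtype) fun q => ?_)
    obtain ⟨g, rfl⟩ := hfs q
    obtain ⟨n, hn, r, hr, rfl⟩ := Subgroup.mem_sup_of_normal_right.mp (hsup ▸ mem_top g)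
    refine ⟨⟨n, hn⟩, ?_⟩
    show f n = f (n * r)
    rw [map_mul, show f r = 1 from (QuotientGroup.eq_one_iff r).mpr hr, mul_one]
  haveI : Nontrivial (G ⧸ R) := QuotientGroup.nontrivial_iff.mpr hRt
  haveI : IsSimpleGroup (G ⧸ R) := ⟨fun M hM => by
    by_cases hMt : M.comap f = ⊤
    · right
      rw [← map_comap_eq_self_of_surjective hfs M, hMt, map_top_of_surjective f hfs]
    · left
      have h1 := hnor _ (hM.comap f) hMt
      rw [← map_comap_eq_self_of_surjective hfs M, Subgroup.map_eq_bot_iff, hf,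
        QuotientGroup.ker_mk']
      exact h1⟩
  have hna : ∃ a b : G ⧸ R, a * b ≠ b * a := by
    by_contra hc
    push Not at hc
    exact hHns (Group.isSolvable_of_comm hc)
  have heven : Even (Nat.card (G ⧸ R)) := by
    by_contra hodd
    exact hHns (hFT _ (Nat.not_even_iff_odd.mp hodd))
  have hRfr : R ≤ frattini G := by
    show R ≤ Order.radical (Subgroup G)
    refine le_iInf₂ fun M hM => ?_
    by_contra hle
    have hsup : M ⊔ R = ⊤ := hM.2 _ (left_lt_sup.mpr hle)
    haveI := hsub M hM.1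
    refine hHns (Group.isSolvable_of_surjective (f := f.comp M.subtype) fun q => ?_)
    obtain ⟨g, rfl⟩ := hfs q
    obtain ⟨n, hn, r, hr, rfl⟩ := Subgroup.mem_sup_of_normal_right.mp (hsup ▸ mem_top g)
    refine ⟨⟨n, hn⟩, ?_⟩
    show f n = f (n * r)
    rw [map_mul, show f r = 1 from (QuotientGroup.eq_one_iff r).mpr hr, mul_one]
  haveI : Group.IsNilpotent R := by
    haveI := frattini_nilpotent (G := G)
    exact Subgroup.isNilpotent_of_ker_le_center (Subgroup.inclusion hRfr)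
      (by rw [(MonoidHom.ker_eq_bot_iff _).mpr (Subgroup.inclusion_injective hRfr)]; exact bot_le)
  have hR1 : ∀ g : G, f g = 1 ↔ g ∈ R := fun g => QuotientGroup.eq_one_iff g
  -- a value centralizing a normal subgroup and lying outside `R` centralizes it fully
  have hcen : ∀ (x : G) (N : Subgroup G), N.Normal → x ∈ centralizer (N : Set G) → f x ≠ 1 →
      centralizer (N : Set G) = ⊤ := by
    intro x N hN hx hx1
    by_contra hne
    haveI := hN
    exact hx1 ((hR1 x).mpr (hnor _ inferInstance hne hx))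
  -- the 2-value over an involution
  obtain ⟨A, hA2, hAc, u, huA, huo, z, hzA, hzu⟩ := exists_mover hna heven
  obtain ⟨x, hxv, ⟨a, hxa⟩, hxA, hx1⟩ := exists_val_lift f hfs (p := 2) (A := A)
    (fun b => ⟨1, Subtype.ext (by rw [pow_one, pow_two]; exact hA2 b b.2)⟩) hAc huA
    (Nat.coprime_two_right.mpr huo) hzA hzu k
  have hxo : orderOf (f x) = 2 := orderOf_eq_prime (by rw [pow_two]; exact hA2 _ hxA) hx1
  obtain ⟨h₁, hh1, hhodd, hhinv⟩ := CfsgLib.Invol.exists_odd_inverted_of_notMem_normal_two hxo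
    (fun N hN hN2 hmem => by
      rcases hN.eq_bot_or_eq_top with rfl | rfl
      · exact hx1 (mem_bot.mp hmem)
      · haveI : Group.IsNilpotent (G ⧸ R) :=
          (hN2.of_equiv topEquiv).isNilpotent
        exact hHns inferInstance)
  -- an element of prime order inverted by `f x`
  obtain ⟨q, hq, hqd⟩ := Nat.exists_prime_and_dvd (mt orderOf_eq_one_iff.mp hh1)
  haveI : Fact q.Prime := ⟨hq⟩
  have hq2 : q ≠ 2 := fun h0 => Nat.not_even_iff_odd.mpr hhodd (even_iff_two_dvd.mpr (h0 ▸ hqd))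
  set h₀ := h₁ ^ (orderOf h₁ / q) with hh₀
  have hh₀o : orderOf h₀ = q := orderOf_pow_orderOf_div (orderOf_pos _).ne' hqd
  have hh₀inv : f x * h₀ * (f x)⁻¹ = h₀⁻¹ := by rw [hh₀, ← conj_pow, hhinv, inv_pow]
  have hh₀1 : h₀ ≠ 1 := fun h0 => by rw [h0, orderOf_one] at hh₀o; exact hq.ne_one hh₀o.symm
  have hh₀sq : h₀ * h₀ ≠ 1 := fun h0 => hq2 ((Nat.prime_dvd_prime_iff_eq hq Nat.prime_two).mp
    (hh₀o ▸ orderOf_dvd_of_pow_eq_one (by rw [pow_two]; exact h0)))
  obtain ⟨w, hwv, ⟨b, hwb⟩, -, hw1⟩ := exists_val_lift f hfs (p := q) (A := zpowers h₀)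
    (IsPGroup.of_card (n := 1) (by rw [Nat.card_zpowers, hh₀o, pow_one]))
    (fun a ha b hb => by
      obtain ⟨i, rfl⟩ := ha
      obtain ⟨j, rfl⟩ := hb
      exact (zpow_mul_comm h₀ i j))
    (u := f x) (z := h₀)
    (Components.mem_normalizer_of_conj_le fun a ha => by
      obtain ⟨i, rfl⟩ := ha
      exact ⟨-i, by simp only [← conj_zpow, hh₀inv, zpow_neg, inv_zpow]⟩)
    (by rw [hxo]; exact (Nat.coprime_primes Nat.prime_two hq).mpr (Ne.symm hq2))
    (mem_zpowers _) (by
      rw [show cm h₀ (f x) = h₀ * (f x * h₀ * (f x)⁻¹)⁻¹ by simp [cm, mul_assoc], hh₀inv, inv_inv]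
      exact hh₀sq) k
  -- `R` is central
  have hRc : ∀ g : G, ∀ r ∈ R, g * r = r * g := by
    have hker : ∀ g : G, R ≤ centralizer ({g} : Set G) := by
      intro g
      set M : Subgroup G := R ⊓ centralizer ({g} : Set G) with hM
      suffices hcard : M.relIndex R = 1 from fun r hr => (relIndex_eq_one.mp hcard hr).2
      by_contra hne
      obtain ⟨s, hs, hsd⟩ := Nat.exists_prime_and_dvd hne
      haveI : Fact s.Prime := ⟨hs⟩
      obtain ⟨S⟩ : Nonempty (Sylow s R) := inferInstance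
      refine S.not_dvd_index (hsd.trans (index_dvd_of_le fun t₀ ht₀ => mem_subgroupOf.mpr
        ⟨t₀.2, ?_⟩))
      haveI : (S : Subgroup R).Characteristic := Sylow.characteristic_of_normal _ inferInstance
      haveI hSn : ((S : Subgroup R).map R.subtype).Normal :=
        ConjAct.normal_of_characteristic_of_normal
      obtain ⟨v, hv, hv1, hvc⟩ : ∃ v : G, Val k v ∧ f v ≠ 1 ∧
          v ∈ centralizer (((S : Subgroup R).map R.subtype : Subgroup G) : Set G) := by
        obtain ⟨i, hi⟩ := IsPGroup.iff_card.mp (S.isPGroup'.map R.subtype)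
        by_cases hs2 : s = 2
        · refine ⟨w, hwv, hw1, mem_centralizer_of_normal h hq hwv hwb _ ?_⟩
          rw [hi]
          exact Nat.Coprime.pow_left i ((Nat.coprime_primes hs hq).mpr (hs2 ▸ Ne.symm hq2))
        · refine ⟨x, hxv, hx1, mem_centralizer_of_normal h Nat.prime_two hxv hxa _ ?_⟩
          rw [hi]
          exact Nat.Coprime.pow_left i ((Nat.coprime_primes hs Nat.prime_two).mpr hs2)
      have htop' := hcen v _ hSn hvc hv1
      exact mem_centralizer_singleton_iff.mpr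
        ((htop' ▸ mem_top g : g ∈ centralizer (((S : Subgroup R).map R.subtype : Subgroup G) : Set G))
          (t₀ : G) (Subgroup.mem_map_of_mem R.subtype ht₀))
    intro g r hr
    exact (mem_centralizer_singleton_iff.mp (hker g hr)).symm
  -- the final contradiction
  obtain ⟨g₀, hg₀⟩ := hfs h₀
  obtain ⟨e, m, hm, hgm⟩ := Nat.exists_eq_pow_mul_and_not_dvd (orderOf_pos g₀).ne' 2 (by norm_num)
  set g₁ := g₀ ^ 2 ^ e with hg₁
  have hg₁o : Odd (orderOf g₁) := by
    refine Odd.of_dvd_nat (Nat.not_even_iff_odd.mp fun he => hm (even_iff_two_dvd.mp he)) ?_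
    exact orderOf_dvd_of_pow_eq_one (by rw [hg₁, ← pow_mul, ← hgm, pow_orderOf_eq_one])
  set hq₁ := h₀ ^ 2 ^ e with hhq₁
  have hinv₁ : f x * hq₁ * (f x)⁻¹ = hq₁⁻¹ := by rw [hhq₁, ← conj_pow, hh₀inv, inv_pow]
  have hfg : f g₁ = hq₁ := by rw [hg₁, map_pow, hg₀]
  set g₂ := x * g₁ * x⁻¹ with hg₂
  have hcR : g₁ * g₂ ∈ R := (hR1 _).mp (by
    rw [hg₂, map_mul, map_mul, map_mul, map_inv, hfg, hinv₁, mul_inv_cancel])
  have hcomm : Commute g₁ g₂ := by
    have h1 := hRc g₁ _ hcR
    show g₁ * g₂ = g₂ * g₁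
    calc g₁ * g₂ = g₁⁻¹ * (g₁ * (g₁ * g₂)) := by group
      _ = g₁⁻¹ * (g₁ * g₂ * g₁) := by rw [h1]
      _ = g₂ * g₁ := by group
  set y := g₁ * g₂⁻¹ with hy
  have hyodd : Odd (orderOf y) := by
    refine Odd.of_dvd_nat ?_ ((hcomm.inv_right).orderOf_mul_dvd_lcm)
    have h2 : orderOf g₂ = orderOf g₁ := by rw [hg₂, CfsgLib.Invol.orderOf_conj]
    rw [orderOf_inv, h2, Nat.lcm_self]
    exact hg₁o
  have hx2 : x * g₂ * x⁻¹ = g₁ := by
    have h1 := hRc x _ hcR
    have h2 : x * g₁ * g₂ * x⁻¹ = g₁ * g₂ := by rw [mul_assoc x g₁ g₂, h1, mul_inv_cancel_right]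
    calc x * g₂ * x⁻¹ = g₂⁻¹ * (x * g₁ * g₂ * x⁻¹) := by rw [hg₂]; group
      _ = g₂⁻¹ * (g₁ * g₂) := by rw [h2]
      _ = g₁ := by rw [hcomm.eq, inv_mul_cancel_left]
  have hyinv : x * y * x⁻¹ = y⁻¹ := by
    rw [hy, show x * (g₁ * g₂⁻¹) * x⁻¹ = (x * g₁ * x⁻¹) * (x * g₂ * x⁻¹)⁻¹ by group, hx2, ← hg₂,
      mul_inv_rev, inv_inv]
  have hy1 := eq_one_of_inverted h hxv (val_of_inverted k hyodd hyinv) hxa hyodd hyinv
  have h4 : hq₁ * hq₁ = 1 := by
    have h5 := congrArg f hy1
    rw [hy, map_mul, map_inv, map_one, hg₂, map_mul, map_mul, map_inv, hfg, hinv₁, inv_inv] at h5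
    exact h5
  have h6 : orderOf hq₁ = q := by
    rw [hhq₁, orderOf_pow, hh₀o, Nat.Coprime.gcd_eq_one (Nat.Coprime.pow_right e
      ((Nat.coprime_primes hq Nat.prime_two).mpr hq2)), Nat.div_one]
  exact hq2 ((Nat.prime_dvd_prime_iff_eq hq Nat.prime_two).mp
    (h6 ▸ orderOf_dvd_of_pow_eq_one (by rw [pow_two]; exact h4)))

end CfsgLib.CoprimeValues
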